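import Groth.Agent.SteinEt.Etale
import Groth.Agent.Rigid.Smooth
import Groth.Prelude.Def_Omega4
import Mathlib

/-! # `d` kills functions on the total space of a proper smooth morphism over an open of the base -/

set_option autoImplicit false
set_option linter.style.haveILetI false
set_option backward.isDefEq.respectTransparency false
set_option backward.isDefEq.respectTransparency.types false

universe u

open CategoryTheory CategoryTheory.Limits AlgebraicGeometry TopologicalSpace Opposite OmegaSh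

namespace Groth.Agent.DOmegaPush

theorem derivation_eq_zero {R A M : Type u} [CommRing R] [CommRing A] [Algebra R A] [Algebra.FormallyUnramified R A]
    [AddCommGroup M] [Module A M] [Module R M] [IsScalarTower R A M] (D : Derivation R A M) (x : A) : D x = 0 := by
  rw [← D.liftKaehlerDifferential_comp_D x, Subsingleton.elim (KaehlerDifferential.D R A x) 0, map_zero]

theorem app_congr {X S : Scheme.{u}} (f : X ⟶ S) (U W : S.Opens) (e : U = W) (h : (f.app U).hom.FormallyUnramified) :
    (f.app W).hom.FormallyUnramified := by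
  subst e; exact h

theorem app_etale {X S : Scheme.{u}} (f : X ⟶ S) [IsProper f] [Smooth f] (W : S.Opens) (hW : IsAffineOpen W) :
    (f.app W).hom.FormallyUnramified := by
  haveI : IsAffine (W : Scheme.{u}) := hW
  haveI : GeometricallyReduced (f ∣_ W) := Rigid.geometricallyReduced_of_smooth (f ∣_ W)
  have h := (SteinEt.finite_and_etale_appTop (f ∣_ W)).2.formallyUnramified
  rw [morphismRestrict_appTop, CommRingCat.hom_comp, RingHom.FormallyUnramified.respectsIso.cancel_right_isIso] at h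
  exact app_congr f (W.ι ''ᵁ ⊤) W W.ι_image_top h

theorem main {X S : Scheme.{u}} (f : X ⟶ S) [IsProper f] [Smooth f] (F : X.Modules) (D : Der f F)
    (V : S.Opens) (s : Γ(X, f ⁻¹ᵁ V)) : D.app (f ⁻¹ᵁ V) s = 0 := by
  have key : ∀ W : S.Opens, IsAffineOpen W → ∀ t : Γ(X, f ⁻¹ᵁ W), D.app (f ⁻¹ᵁ W) t = 0 := by
    intro W hW t
    letI : Algebra Γ(S, W) Γ(X, f ⁻¹ᵁ W) := (f.app W).hom.toAlgebra
    haveI : Algebra.FormallyUnramified Γ(S, W) Γ(X, f ⁻¹ᵁ W) :=
      RingHom.formallyUnramified_algebraMap.1 (app_etale f W hW)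
    letI : Module Γ(S, W) Γ(F, f ⁻¹ᵁ W) := Module.compHom _ (f.app W).hom
    haveI : IsScalarTower Γ(S, W) Γ(X, f ⁻¹ᵁ W) Γ(F, f ⁻¹ᵁ W) := ⟨fun r a m => by
      show ((f.app W).hom r * a) • m = (f.app W).hom r • (a • m)
      rw [mul_smul]⟩
    let D' : Derivation Γ(S, W) Γ(X, f ⁻¹ᵁ W) Γ(F, f ⁻¹ᵁ W) := Derivation.mk'
      { toFun := D.app (f ⁻¹ᵁ W)
        map_add' := map_add _
        map_smul' := fun r a => by
          rw [RingHom.id_apply, Algebra.smul_def]
          show D.d (X := op (f ⁻¹ᵁ W)) ((f.app W).hom r * a) = (f.app W).hom r • _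
          refine (D.d_mul _ _).trans ?_
          rw [show D.d (X := op (f ⁻¹ᵁ W)) ((f.app W).hom r) = 0 from D.d_app r, smul_zero, add_zero]
          rfl }
      fun a b => D.d_mul a b
    exact derivation_eq_zero D' t
  let 𝒰 := fun i : {W : S.affineOpens // W.1 ≤ V} => f ⁻¹ᵁ i.1.1
  refine TopCat.Sheaf.eq_of_locally_eq' (⟨F.presheaf, F.isSheaf⟩ : TopCat.Sheaf AddCommGrpCat X) 𝒰 (f ⁻¹ᵁ V)
    (fun i => homOfLE (fun x hx => i.2 hx)) (fun x hx => ?_) _ _ fun i => ?_
  · obtain ⟨W, hW, hxW, hWV⟩ := exists_isAffineOpen_mem_and_subset (X := S) (x := f x) (U := V) hx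
    exact Opens.mem_iSup.2 ⟨⟨⟨W, hW⟩, hWV⟩, hxW⟩
  · have hle : 𝒰 i ≤ f ⁻¹ᵁ V := fun x hx => i.2 hx
    have h1 := key i.1.1 i.1.2 (X.presheaf.map (homOfLE hle).op s)
    rw [map_zero]
    refine ((D.d_map (homOfLE hle).op s).symm.trans ?_)
    exact h1

end Groth.Agent.DOmegaPush
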